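import Mathlib
import Cfsg.Agent.Helper8.GlaubMain

/-!
# S4385 (Goldschmidt's dihedral lemma): the chain, the swap trick and the tower

`H ≤ G`, `P` a Sylow 2-subgroup of `H`, `y` normalizing `P` with `y² ∈ P C(P)` and normalizing no
nonidentity normal subgroup of `H` inside `P`; `h0 ∈ H` with `⟨P, h0 P h0⁻¹⟩ = H`.  With
`h = h0 y` the pair `(P, h)` is a `Chain 2 P h` of helper8's Glauberman machinery (S4359), the
centre condition holds with `n = 2` by the *swap trick*, hence `|P| = 2^t`, `t ≤ 6`, `t ≠ 5`.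
-/

set_option autoImplicit false

namespace Cfsg.Agent.Helper42.GD

open Pointwise Cfsg.Agent.Helper8.Sims3 Cfsg.Agent.Helper8.Glaub

variable {G : Type*} [Group G]

/-- the hypotheses of S4385 in the form used here -/
structure Hyp (H P : Subgroup G) (y h0 : G) : Prop where
  hPH : P ≤ H
  hh0 : h0 ∈ H
  hyN : MulAut.conj y • P = P
  hy2 : y ^ 2 ∈ P ⊔ Subgroup.centralizer (P : Set G)
  hgen : P ⊔ MulAut.conj h0 • P = H
  hyQ : ∀ Q : Subgroup G, Q ≤ P → (Q.subgroupOf H).Normal → MulAut.conj y • Q = Q → Q = ⊥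

theorem conj_smul_eq_self_of_mem_normalizer {N : Subgroup G} {a : G}
    (ha : a ∈ Subgroup.normalizer (N : Set G)) : MulAut.conj a • N = N := by
  ext x
  rw [mem_conj_smul]
  have h1 : a⁻¹ ∈ Subgroup.normalizer (N : Set G) := inv_mem ha
  rw [Subgroup.mem_normalizer_iff] at h1
  have := (h1 x).symm
  rwa [inv_inv] at this

theorem mem_normalizer_of_conj_smul_eq {N : Subgroup G} {a : G}
    (ha : MulAut.conj a • N = N) : a ∈ Subgroup.normalizer (N : Set G) := by
  rw [Subgroup.mem_normalizer_iff]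
  intro x
  constructor
  · intro hx
    have : a * x * a⁻¹ ∈ MulAut.conj a • N := by
      rw [mem_conj_smul]
      have e : a⁻¹ * (a * x * a⁻¹) * a = x := by group
      rwa [e]
    rwa [ha] at this
  · intro hx
    rw [← ha, mem_conj_smul] at hx
    have e : a⁻¹ * (a * x * a⁻¹) * a = x := by group
    rwa [e] at hx

theorem subgroupOf_normal_of_le_normalizer {N H : Subgroup G} (hN : H ≤ Subgroup.normalizer (N : Set G)) :
    (N.subgroupOf H).Normal := by
  constructor
  intro n hn g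
  rw [Subgroup.mem_subgroupOf] at hn ⊢
  have hg : (g : G) ∈ Subgroup.normalizer (N : Set G) := hN g.2
  rw [Subgroup.mem_normalizer_iff] at hg
  exact (hg _).mp hn

theorem le_normalizer_of_subgroupOf_normal {N H : Subgroup G} (hNH : N ≤ H)
    (hN : (N.subgroupOf H).Normal) : H ≤ Subgroup.normalizer (N : Set G) := by
  intro g hg
  rw [Subgroup.mem_normalizer_iff]
  intro x
  constructor
  · intro hx
    have := hN.conj_mem ⟨x, hNH hx⟩ (by rw [Subgroup.mem_subgroupOf]; exact hx) ⟨g, hg⟩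
    rw [Subgroup.mem_subgroupOf] at this
    exact this
  · intro hx
    have hx' : g * x * g⁻¹ ∈ H := hNH hx
    have := hN.conj_mem ⟨g * x * g⁻¹, hx'⟩ (by rw [Subgroup.mem_subgroupOf]; exact hx)
      ⟨g⁻¹, inv_mem hg⟩
    rw [Subgroup.mem_subgroupOf] at this
    have e : g⁻¹ * (g * x * g⁻¹) * g⁻¹⁻¹ = x := by group
    simp only [Subgroup.coe_mul, Subgroup.coe_inv] at this
    rwa [e] at this

namespace Hyp

variable {H P : Subgroup G} {y h0 : G}

/-- `h P h⁻¹ = h0 P h0⁻¹` for `h = h0 y` -/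
theorem conj_h (hh : Hyp H P y h0) : MulAut.conj (h0 * y) • P = MulAut.conj h0 • P := by
  rw [← conj_smul_smul, hh.hyN]

/-- a subgroup of `P` normalized by `H` and by `y` is trivial -/
theorem eq_bot_of_normalizer (hh : Hyp H P y h0) {N : Subgroup G} (hNP : N ≤ P)
    (hH : H ≤ Subgroup.normalizer (N : Set G)) (hy : MulAut.conj y • N = N) : N = ⊥ :=
  hh.hyQ N hNP (subgroupOf_normal_of_le_normalizer hH) hy

/-- `y²` normalizes every subgroup of `P` that is normalized by `P` -/
theorem sq_smul (hh : Hyp H P y h0) {N : Subgroup G} (hNP : N ≤ P) (hP : P ≤ Subgroup.normalizer (N : Set G)) :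
    MulAut.conj (y ^ 2) • N = N := by
  apply conj_smul_eq_self_of_mem_normalizer
  have hC : Subgroup.centralizer (P : Set G) ≤ Subgroup.normalizer (N : Set G) := by
    intro c hc
    rw [Subgroup.mem_normalizer_iff]
    intro x
    have hcx : ∀ x ∈ N, c * x * c⁻¹ = x := by
      intro x hx
      have := hc x (hNP hx)
      rw [← this, mul_inv_cancel_right]
    constructor
    · intro hx
      rw [hcx x hx]; exact hx
    · intro hx
      have h1 := hcx _ hx
      have e : c * x * c⁻¹ = x := by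
        have h2 : c * (c * x * c⁻¹) * c⁻¹ = c * x * c⁻¹ := h1
        have h3 : c⁻¹ * (c * (c * x * c⁻¹) * c⁻¹) * c = c⁻¹ * (c * x * c⁻¹) * c := by rw [h2]
        have e1 : c⁻¹ * (c * (c * x * c⁻¹) * c⁻¹) * c = c * x * c⁻¹ := by group
        have e2 : c⁻¹ * (c * x * c⁻¹) * c = x := by group
        rw [e1, e2] at h3
        exact h3
      rw [← e]; exact hx
  exact (sup_le hP hC) hh.hy2

/-- **the swap trick**: a subgroup of `P` normalized by `H` and by `h H h⁻¹` (`h = h0 y`) is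
trivial -/
theorem swap_trick (hh : Hyp H P y h0) {N : Subgroup G} (hNP : N ≤ P)
    (h1 : H ≤ Subgroup.normalizer (N : Set G)) (h2 : MulAut.conj (h0 * y) • H ≤ Subgroup.normalizer (N : Set G)) : N = ⊥ := by
  -- `N' = y⁻¹ N y`
  set N' : Subgroup G := MulAut.conj y⁻¹ • N with hN'
  have hN'P : N' ≤ P := by
    have : MulAut.conj y⁻¹ • P = P := by
      conv_lhs => rw [← hh.hyN]
      rw [conj_smul_smul, inv_mul_cancel, conj_one_smul]
    rw [← this]
    exact Subgroup.pointwise_smul_le_pointwise_smul_iff.mpr hNP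
  have hN'H : H ≤ Subgroup.normalizer (N' : Set G) := by
    -- `N' = h⁻¹ N h` since `h0` normalizes `N`
    have e1 : MulAut.conj (h0 * y)⁻¹ • N = N' := by
      rw [mul_inv_rev, ← conj_smul_smul, hN']
      congr 1
      exact conj_smul_eq_self_of_mem_normalizer (inv_mem (h1 hh.hh0))
    intro g hg
    apply mem_normalizer_of_conj_smul_eq
    rw [← e1, conj_smul_smul]
    have hg' : (h0 * y) * g * (h0 * y)⁻¹ ∈ Subgroup.normalizer (N : Set G) := by
      apply h2
      rw [mem_conj_smul]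
      have e : (h0 * y)⁻¹ * ((h0 * y) * g * (h0 * y)⁻¹) * (h0 * y) = g := by group
      rwa [e]
    have e2 : g * (h0 * y)⁻¹ = (h0 * y)⁻¹ * ((h0 * y) * g * (h0 * y)⁻¹) := by group
    rw [e2, ← conj_smul_smul, conj_smul_eq_self_of_mem_normalizer hg']
  -- `y` swaps `N` and `N'`
  have hyN' : MulAut.conj y • N' = N := by
    rw [hN', conj_smul_smul, mul_inv_cancel, conj_one_smul]
  have hyN : MulAut.conj y • N = N' := by
    have h3 : MulAut.conj (y ^ 2) • N' = N' :=
      hh.sq_smul hN'P (le_trans hh.hPH hN'H)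
    rw [pow_two, ← conj_smul_smul, hyN'] at h3
    exact h3
  have hsup : N ⊔ N' = ⊥ := by
    apply hh.eq_bot_of_normalizer (sup_le hNP hN'P)
    · intro g hg
      apply mem_normalizer_of_conj_smul_eq
      rw [Subgroup.smul_sup, conj_smul_eq_self_of_mem_normalizer (h1 hg),
        conj_smul_eq_self_of_mem_normalizer (hN'H hg)]
    · rw [Subgroup.smul_sup, hyN, hyN', sup_comm]
  exact le_bot_iff.mp (hsup ▸ le_sup_left)

/-- the chain of helper8's Glauberman machinery -/
theorem chain [Finite G] (hh : Hyp H P y h0) (Q : Subgroup G)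
    (hQ : P ⊓ MulAut.conj h0 • P = Q) (hQn : H ≤ Subgroup.normalizer (Q : Set G))
    (hcard : Nat.card ↥P = 2 * Nat.card ↥Q) : Chain 2 P (h0 * y) := by
  have hP1H : MulAut.conj h0 • P ≤ H := by
    rw [← hh.hgen]; exact le_sup_right
  refine ⟨?_, ?_, ?_⟩
  · rw [hh.conj_h, hQ]
    exact subgroupOf_normal_of_le_normalizer (le_trans hP1H hQn)
  · rw [hh.conj_h, hQ]
    have hle : Q ≤ MulAut.conj h0 • P := by rw [← hQ]; exact inf_le_right
    have h1 := card_mul_relIndex Q (MulAut.conj h0 • P) hle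
    rw [card_conj_smul, hcard] at h1
    have hQpos : 0 < Nat.card ↥Q := Nat.card_pos
    have : Nat.card ↥Q * Q.relIndex (MulAut.conj h0 • P) = Nat.card ↥Q * 2 := by
      rw [h1]; ring
    exact Nat.eq_of_mul_eq_mul_left hQpos this
  · intro N hNP hNn hhN
    -- `N` is normalized by `P`, by `h`, hence by `h P h⁻¹`, hence by `H`
    have hPn : P ≤ Subgroup.normalizer (N : Set G) := le_normalizer_of_subgroupOf_normal hNP hNn
    have hhn : h0 * y ∈ Subgroup.normalizer (N : Set G) := mem_normalizer_of_conj_smul_eq hhN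
    have hP1n : MulAut.conj h0 • P ≤ Subgroup.normalizer (N : Set G) := by
      rw [← hh.conj_h]
      intro x hx
      rw [mem_conj_smul] at hx
      have h1 := hPn hx
      have h2 : (h0 * y) * ((h0 * y)⁻¹ * x * (h0 * y)) * (h0 * y)⁻¹ ∈
          Subgroup.normalizer (N : Set G) := mul_mem (mul_mem hhn h1) (inv_mem hhn)
      have e : (h0 * y) * ((h0 * y)⁻¹ * x * (h0 * y)) * (h0 * y)⁻¹ = x := by group
      rwa [e] at h2
    have hHn : H ≤ Subgroup.normalizer (N : Set G) := by
      rw [← hh.hgen]; exact sup_le hPn hP1n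
    apply hh.eq_bot_of_normalizer hNP hHn
    have h0n : MulAut.conj h0 • N = N := conj_smul_eq_self_of_mem_normalizer (hHn hh.hh0)
    have h3 : MulAut.conj h0⁻¹ • N = N :=
      conj_smul_eq_self_of_mem_normalizer (inv_mem (hHn hh.hh0))
    rw [← conj_smul_smul] at hhN
    have h4 : MulAut.conj h0⁻¹ • (MulAut.conj h0 • MulAut.conj y • N) = MulAut.conj h0⁻¹ • N := by
      rw [hhN]
    rw [conj_smul_smul, inv_mul_cancel, conj_one_smul, h3] at h4
    exact h4

end Hyp

/-- the tower attached to a chain (extracted from `Glaub.chain_main`) -/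
theorem exists_ptower [Finite G] {p : ℕ} (hp : p.Prime) {P : Subgroup G} {h : G}
    (hc : Chain p P h) :
    ∃ (t : ℕ) (y : ℤ → G), 1 ≤ t ∧ PTower p t y ∧ (∀ i : ℤ, U y i t = MulAut.conj (h ^ i) • P) ∧
      (∀ k : ℤ, y (k + 1) = h * y k * h⁻¹) ∧ Nat.card ↥P = p ^ t ∧
      U y 1 (t - 1) = P ⊓ MulAut.conj h • P := by
  have hstep := Cfsg.Agent.Helper2.Glaub.chain_step hp hc
  obtain ⟨t, ht, hE⟩ := Cfsg.Agent.Helper90.Glaub.chain_exists hp hc hstep
    (Cfsg.Agent.Helper93.Glaub.chain_stable hp hc hstep)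
  have hcard : Nat.card ↥(E P h 0 (t - 1)) = p := by
    rw [hE (t - 1) (by omega)]
    have : t - (t - 1) = 1 := by omega
    rw [this, pow_one]
  have hnt : Nontrivial ↥(E P h 0 (t - 1)) := by
    rw [← Finite.one_lt_card_iff_nontrivial, hcard]
    exact hp.one_lt
  obtain ⟨⟨y0, hy0E⟩, hy0⟩ := exists_ne (1 : ↥(E P h 0 (t - 1)))
  have hy0' : y0 ≠ 1 := fun hh => hy0 (Subtype.ext hh)
  set y : ℤ → G := fun k => h ^ (k + 1 - t) * y0 * (h ^ (k + 1 - t))⁻¹ with hy
  have hG1 := Cfsg.Agent.Helper10.Glaub.ptower_G1 hp t ht hE y0 hy0' hy0E y (fun _ => rfl)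
  obtain ⟨hT, hU⟩ := Cfsg.Agent.Helper34.Glaub.ptower_of_G1 hp t ht hE y0 hy0' hy0E y
    (fun _ => rfl) hG1
  refine ⟨t, y, ht, hT, hU, ?_, ?_, ?_⟩
  · intro k
    simp only [hy]
    have e : k + 1 + 1 - (t : ℤ) = (k + 1 - t) + 1 := by ring
    rw [e, zpow_add_one]
    group
  · have := hE 0 (by omega)
    rwa [E_zero_zero, Nat.sub_zero] at this
  · rcases Nat.lt_or_ge 1 t with h1 | h1
    · have := hG1 1 (t - 1) (by omega) (by omega)
      rw [this]
      have e1 : (1 : ℤ) + ((t - 1 : ℕ) : ℤ) - (t : ℤ) = 0 := by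
        rw [Nat.cast_sub (by omega)]; push_cast; ring
      have e2 : t - (t - 1) = 1 := by omega
      rw [e1, e2, E_zero_one]
    · have ht1 : t = 1 := by omega
      subst ht1
      rw [Nat.sub_self, U_zero]
      have := hE 1 le_rfl
      rw [Nat.sub_self, pow_zero, Subgroup.card_eq_one, E_zero_one] at this
      exact this.symm

/-- the tower package: involutions `x k` (`k : ℤ`), shifted by `h`, `t` consecutive ones generate
a conjugate of `P`, `t + 1` consecutive ones a conjugate of `H`, and the swap trick -/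
structure Tow (H P : Subgroup G) (h : G) (t : ℕ) (x : ℤ → G) : Prop where
  pt : PTower 2 t x
  shift : ∀ k : ℤ, x (k + 1) = h * x k * h⁻¹
  hU : ∀ i : ℤ, U x i t = MulAut.conj (h ^ i) • P
  hH : U x 0 (t + 1) = H
  sw : ∀ N : Subgroup G, N ≤ P → H ≤ Subgroup.normalizer (N : Set G) →
    MulAut.conj h • H ≤ Subgroup.normalizer (N : Set G) → N = ⊥

/-- from the hypotheses to the tower -/
theorem Hyp.exists_tow [Finite G] {H P : Subgroup G} {y h0 : G} (hh : Hyp H P y h0)
    (Q : Subgroup G) (hQ : P ⊓ MulAut.conj h0 • P = Q)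
    (hQn : H ≤ Subgroup.normalizer (Q : Set G)) (hcard : Nat.card ↥P = 2 * Nat.card ↥Q) :
    ∃ (t : ℕ) (x : ℤ → G), 1 ≤ t ∧ Tow H P (h0 * y) t x ∧ Nat.card ↥P = 2 ^ t ∧
      U x 1 (t - 1) = Q := by
  obtain ⟨t, x, ht, hT, hU, hsh, hc, hUQ⟩ := exists_ptower Nat.prime_two (hh.chain Q hQ hQn hcard)
  refine ⟨t, x, ht, ⟨hT, hsh, hU, ?_, ?_⟩, hc, ?_⟩
  · rw [U_add, hU 0, zpow_zero, conj_one_smul]
    have h1 : U x ((0 : ℤ) + (t : ℕ)) 1 ≤ U x 1 t := U_mono (by omega) (by push_cast; omega)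
    have h2 : U x 1 t = MulAut.conj h0 • P := by rw [hU 1, zpow_one, hh.conj_h]
    apply le_antisymm
    · rw [← hh.hgen]
      exact sup_le le_sup_left (le_trans h1 (h2 ▸ le_sup_right))
    · rw [← hh.hgen, ← h2]
      refine sup_le le_sup_left ?_
      have h3 : U x 1 t ≤ U x 0 (t + 1) := U_mono (by omega) (by push_cast; omega)
      rw [U_add, hU 0, zpow_zero, conj_one_smul] at h3
      exact h3
  · intro N hNP h1 h2
    exact hh.swap_trick hNP h1 h2
  · rw [hUQ, hh.conj_h, hQ]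

namespace Tow

variable {H P : Subgroup G} {h : G} {t : ℕ} {x : ℤ → G}

theorem hP (T : Tow H P h t x) : U x 0 t = P := by
  rw [T.hU 0, zpow_zero, conj_one_smul]

theorem hH1 (T : Tow H P h t x) : U x 1 (t + 1) = MulAut.conj h • H := by
  have := smul_U T.shift 1 0 (t + 1)
  rw [zpow_one, zero_add, T.hH] at this
  exact this.symm

/-- the centre condition with `n = 2` -/
theorem cen (T : Tow H P h t x) :
    ∀ z ∈ U x 0 t, (∀ k : ℤ, 0 ≤ k → k < t + 2 → Commute z (x k)) → z = 1 := by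
  intro z hz hcomm
  rw [T.hP] at hz
  have hmem : ∀ g : G, Commute z g → g ∈ Subgroup.normalizer (Subgroup.zpowers z : Set G) := by
    intro g hg
    apply Subgroup.centralizer_le_normalizer
    rw [Subgroup.mem_centralizer_iff]
    rintro w ⟨m, rfl⟩
    exact ((hg.zpow_left m).eq)
  have hN : Subgroup.zpowers z = ⊥ := by
    apply T.sw _ (by rwa [Subgroup.zpowers_le])
    · rw [← T.hH, U_le_iff]
      intro k hk1 hk2
      exact hmem _ (hcomm k hk1 (by push_cast at hk2; omega))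
    · rw [← T.hH1, U_le_iff]
      intro k hk1 hk2
      exact hmem _ (hcomm k (by omega) (by push_cast at hk2; omega))
  rw [Subgroup.zpowers_eq_bot] at hN
  exact hN

/-- `t ≤ 6`, `t ≠ 5` -/
theorem bound (T : Tow H P h t x) (ht : 1 ≤ t) : t ≤ 6 ∧ t ≠ 5 := by
  have := ptower_bound Nat.prime_two T.pt ht 2 (by norm_num) T.cen
  omega

/-- the parameter `λ` -/
theorem exists_lam (T : Tow H P h t x) (ht : 1 ≤ t) :
    ∃ l : ℕ, IsLam x l ∧ 1 ≤ l ∧ l < t + 2 ∧ (l ≤ 2 ∨ 2 * l ≤ t + 2) ∧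
      (l + 1 ≤ t → 2 * t ≤ 3 * l) := by
  obtain ⟨l, hl1, hlt, hl⟩ := Cfsg.Agent.Helper2.Glaub.ptower_exists_lam Nat.prime_two T.pt ht 2 T.cen
  refine ⟨l, hl, hl1, hlt, ?_, ?_⟩
  · exact Cfsg.Agent.Helper90.Glaub.ptower_lam_upper Nat.prime_two T.pt ht 2 (by norm_num) T.cen
      hl hl1 hlt
  · intro hlt'
    exact Cfsg.Agent.Helper70.Glaub.ptower_lam_lower Nat.prime_two T.pt hl hl1 hlt'

/-- the value of `λ` for `t = 2, 3, 4, 6` -/
theorem lam_eq (T : Tow H P h t x) (ht : t = 2 ∨ t = 3 ∨ t = 4 ∨ t = 6) :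
    IsLam x (if t = 2 ∨ t = 3 then 2 else if t = 4 then 3 else 4) := by
  obtain ⟨l, hl, hl1, hlt, hup, hlow⟩ := T.exists_lam (by omega)
  rcases ht with rfl | rfl | rfl | rfl
  · have : l = 2 := by
      by_cases h1 : l + 1 ≤ 2
      · have := hlow h1; omega
      · omega
    subst this
    simpa using hl
  · have : l = 2 := by
      by_cases h1 : l + 1 ≤ 3
      · have := hlow h1; omega
      · omega
    subst this
    simpa using hl
  · have : l = 3 := by
      by_cases h1 : l + 1 ≤ 4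
      · have := hlow h1; omega
      · omega
    subst this
    simpa using hl
  · have : l = 4 := by
      by_cases h1 : l + 1 ≤ 6
      · have := hlow h1; omega
      · omega
    subst this
    simpa using hl

/-- the `x k` are involutions -/
theorem sq (T : Tow H P h t x) (ht : 1 ≤ t) (k : ℤ) : x k * x k = 1 := by
  have h1 := T.pt.card k 1 ht
  rw [U_one, pow_one, Nat.card_zpowers] at h1
  rw [← pow_two, ← h1]
  exact pow_orderOf_eq_one _

theorem ne_one (T : Tow H P h t x) (ht : 1 ≤ t) (k : ℤ) : x k ≠ 1 := by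
  intro h0
  have h1 := T.pt.card k 1 ht
  rw [U_one, pow_one, Nat.card_zpowers, h0, orderOf_one] at h1
  omega

theorem inv (T : Tow H P h t x) (ht : 1 ≤ t) (k : ℤ) : (x k)⁻¹ = x k :=
  inv_eq_of_mul_eq_one_right (T.sq ht k)

theorem mem_H (T : Tow H P h t x) {k : ℤ} (h0 : 0 ≤ k) (h1 : k ≤ t) : x k ∈ H := by
  rw [← T.hH]
  exact mem_U_self x h0 (by push_cast; omega)

theorem mem_P (T : Tow H P h t x) {k : ℤ} (h0 : 0 ≤ k) (h1 : k < t) : x k ∈ P := by
  rw [← T.hP]
  exact mem_U_self x h0 (by omega)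

/-- the two values of `λ` for `t = 3`, `t = 4` in the form used -/
theorem lam_three (T : Tow H P h 3 x) : IsLam x 2 := by
  simpa using T.lam_eq (Or.inr (Or.inl rfl))

theorem lam_two (T : Tow H P h 2 x) : IsLam x 2 := by
  simpa using T.lam_eq (Or.inl rfl)

theorem lam_four (T : Tow H P h 4 x) : IsLam x 3 := by
  simpa using T.lam_eq (Or.inr (Or.inr (Or.inl rfl)))

theorem lam_six (T : Tow H P h 6 x) : IsLam x 4 := by
  simpa using T.lam_eq (Or.inr (Or.inr (Or.inr rfl)))

end Tow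

end Cfsg.Agent.Helper42.GD
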