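import Mathlib
import Cfsg.Prelude.Def_Solvable
import Cfsg.Prelude.Def_CaseTheorems
import Cfsg.Agent.Helper42.GD.Core
import Cfsg.Agent.Helper30.GD_UFIN
import Cfsg.Agent.Helper93.GD_BR
import Cfsg.Agent.Helper37.GD_DC
import Cfsg.Agent.Helper53.GD_QIMG
import Cfsg.Agent.Helper68.GD_SYL
import Cfsg.Agent.Helper93.GD_GEN
import Cfsg.Agent.Helper89.GD_DRHO
import Cfsg.Agent.Helper30.GD_K4
import Cfsg.Agent.Helper59.GD_T6
import Cfsg.Agent.Helper70.GD_OC2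
import Cfsg.Agent.Helper81.GD_OCS4
import Cfsg.Agent.Helper87.GD_OCPR
import Cfsg.Agent.Helper37.GD_ODD
import Cfsg.Agent.Helper81.GD_RHO
import Cfsg.Agent.Helper68.GD_FIN
import Cfsg.Agent.Helper76.GD_REL3
import Cfsg.Agent.Helper76.GD_REL4
import Cfsg.Agent.Helper65.GD_W3
import Cfsg.Agent.Helper70.GD_W4A
import Cfsg.Agent.Helper22.GD_W4B
import Cfsg.Agent.Helper22.GD_W4C

/-!
# S4385: the leaves of the farm #14513, restated verbatim (namespace `Skel`) from the helpers' files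
-/

set_option autoImplicit false

universe u

namespace Cfsg.Agent.Helper42.GD.Skel

open Pointwise Cfsg Cfsg.Agent.Helper8.Sims3 Cfsg.Agent.Helper8.Glaub Cfsg.Agent.Helper42.GD

/-! ## LEAVES A: dihedral quotients (Mathlib + Prelude only) -/

/-- (ODD) `O_2(Γ/O_2(Γ)) = 1` (`Cfsg.Agent.Helper51.pCore_two_quotient_eq_bot`, file Helper51/SidkiRed.lean), but for even
`n ≥ 2` the rotation `r (n/2)` generates a central subgroup of order 2 of `DihedralGroup n`. -/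
theorem odd_of_dihedral {Γ : Type*} [Group Γ] [Finite Γ] {n : ℕ} (hn : 2 ≤ n)
    (e : Γ ⧸ Cfsg.pCore 2 Γ ≃* DihedralGroup n) : Odd n :=
  Cfsg.Agent.Helper37.GD.odd_of_dihedral hn e

/-- (SYL) Sylow 2-subgroups of `Γ` when `Γ/O_2(Γ) ≅ D_n`, `n` odd: `O_2(Γ) ≤ S` (a normal 2-subgroup lies in every Sylow
2-subgroup), `|Γ| = 2n |O_2(Γ)|` and `|O_2(Γ)|` is a power of 2.  Cf. helper88's (SQ) `Cfsg.Agent.*.SimsD.card_sylow_eq`
for prime `n`. -/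
theorem card_sylow_dihedral {Γ : Type*} [Group Γ] [Finite Γ] (S : Subgroup Γ) (hS : IsPGroup 2 S)
    (hidx : ¬ 2 ∣ S.index) {n : ℕ} (hn : Odd n) (e : Γ ⧸ Cfsg.pCore 2 Γ ≃* DihedralGroup n) :
    Cfsg.pCore 2 Γ ≤ S ∧ Nat.card S = 2 * Nat.card (Cfsg.pCore 2 Γ) ∧ Nat.card Γ = n * Nat.card S :=
  Cfsg.Agent.Helper68.GD.card_sylow_dihedral S hS hidx hn e

/-- (GEN) `S/Q = ⟨sr i⟩`; take `g` with image `r 1`: `g S g⁻¹ / Q = ⟨sr (i - 2)⟩` hmm sign conventions aside,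
`sr i * sr j` is the rotation `r (j - i)`, `r 2` generates all rotations as `n` is odd, so `⟨S, g S g⁻¹⟩ = Γ`;
`S ≠ g S g⁻¹` (else `S = Γ`, but `|Γ| = n |S|`, `n ≥ 3`), `Q ≤ S ∩ g S g⁻¹ < S` and `|S : Q| = 2`.
Cf. helper88's (CONJD)/(CONJ) for prime `n` (tools/helper88_simsd/Skel.lean.txt). -/
theorem exists_conj_gen_inf {Γ : Type*} [Group Γ] [Finite Γ] (S : Subgroup Γ)
    (hQS : Cfsg.pCore 2 Γ ≤ S) (hcard : Nat.card S = 2 * Nat.card (Cfsg.pCore 2 Γ))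
    {n : ℕ} (hn : Odd n) (hn3 : 3 ≤ n) (e : Γ ⧸ Cfsg.pCore 2 Γ ≃* DihedralGroup n) :
    ∃ g : Γ, S ⊔ MulAut.conj g • S = ⊤ ∧ S ⊓ MulAut.conj g • S = Cfsg.pCore 2 Γ :=
  Cfsg.Agent.Helper93.GD.exists_conj_gen_inf S hQS hcard hn hn3 e

/-- (BR) from `↥H` to the ambient group: pure transport along `H.subtype` (`Subgroup.subgroupOf`, `Subgroup.map`,
`Subgroup.map_injective`, `Subgroup.map_sup`, `Subgroup.map_inf`, `Subgroup.card_subtype`/`card_map_of_injective`;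
`(MulAut.conj g • K).map H.subtype = MulAut.conj (g : G) • K.map H.subtype`;  `Q` is normalized by `H` since `pCore` is normal). -/
theorem bridge {G : Type*} [Group G] [Finite G] (H P : Subgroup G) (hPH : P ≤ H) (n : ℕ)
    (h1 : Cfsg.pCore 2 ↥H ≤ P.subgroupOf H)
    (h2 : Nat.card (P.subgroupOf H) = 2 * Nat.card (Cfsg.pCore 2 ↥H))
    (h3 : Nat.card ↥H = n * Nat.card (P.subgroupOf H)) (g : ↥H)
    (h4 : P.subgroupOf H ⊔ MulAut.conj g • P.subgroupOf H = ⊤)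
    (h5 : P.subgroupOf H ⊓ MulAut.conj g • P.subgroupOf H = Cfsg.pCore 2 ↥H) :
    (Cfsg.pCore 2 ↥H).map H.subtype ≤ P ∧
    Nat.card P = 2 * Nat.card ((Cfsg.pCore 2 ↥H).map H.subtype) ∧
    Nat.card H = n * Nat.card P ∧
    H ≤ Subgroup.normalizer (((Cfsg.pCore 2 ↥H).map H.subtype : Subgroup G) : Set G) ∧
    P ⊔ MulAut.conj (g : G) • P = H ∧
    P ⊓ MulAut.conj (g : G) • P = (Cfsg.pCore 2 ↥H).map H.subtype :=
  Cfsg.Agent.Helper93.GD.bridge H P hPH n h1 h2 h3 g h4 h5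

/-! ## LEAVES B: the tower (import Cfsg.Agent.Helper42.GD.Core) -/

section tower

variable {G : Type*} [Group G] [Finite G] {H P : Subgroup G} {h : G} {x : ℤ → G}

/-- (T6) Copy of helper50's `p5_false` (Helper50/Sims3_P5a.lean) with `Tower 7` replaced by `Tow … 6`:
`P5Data x` from `T.sq`, `T.lam_six : IsLam x 4` and helper93's
`Cfsg.Agent.Helper93.Glaub.ptower_comm_mem Nat.prime_two T.pt a d (hd : d + 2 ≤ 6) u w hu hw : u*w*u⁻¹*w⁻¹ ∈ U x (a+1) d`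
(as in `p5_data`); then `N = closure (x '' Set.Icc 2 5) = U x 2 4` is normalized by `x 0 .. x 7` (`p5_mem_normalizer`, `p5_W`),
`N ≤ U x 0 6 = P` (`T.hP`), `U x 0 7 = H` (`T.hH`) and `U x 1 7 = conj h • H` (`T.hH1`) normalize `N`, so `N = ⊥` by `T.sw`,
but `x 2 ≠ 1` (`T.ne_one`). -/
theorem not_six (T : Tow H P h 6 x) : False :=
  Cfsg.Agent.Helper59.GD.not_six T

/-- (REL3) `ptower_comm_mem` with `a = 0, 1`, `d = 1`: `[x a, x (a+2)] ∈ U x (a+1) 1 = {1, x (a+1)}` (`U_one`, `T.sq`);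
`≠ 1` by `T.lam_three.ncomm`; inverses by `T.inv`. -/
theorem rel3 (T : Tow H P h 3 x) :
    x 0 * x 2 * x 0 * x 2 = x 1 ∧ x 1 * x 3 * x 1 * x 3 = x 2 :=
  Cfsg.Agent.Helper76.GD.rel3 T

/-- (REL4) `ptower_comm_mem` with `a = 0`, `d = 2`: `[x 0, x 3] ∈ U x 1 2 = {1, x 1, x 2, x 1 * x 2}` (`x 1`, `x 2` commuting
involutions by `T.lam_four.commute`), `≠ 1` by `T.lam_four.ncomm 0`; `[x 1, x 4] = h [x 0, x 3] h⁻¹` by `T.shift`. -/
theorem rel4 (T : Tow H P h 4 x) :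
    (x 0 * x 3 * x 0 * x 3 = x 1 ∧ x 1 * x 4 * x 1 * x 4 = x 2) ∨
    (x 0 * x 3 * x 0 * x 3 = x 2 ∧ x 1 * x 4 * x 1 * x 4 = x 3) ∨
    (x 0 * x 3 * x 0 * x 3 = x 1 * x 2 ∧ x 1 * x 4 * x 1 * x 4 = x 2 * x 3) :=
  Cfsg.Agent.Helper76.GD.rel4 T

end tower

/-- (UFIN) `U` of small length as closure of an explicit finite set (`U x a m = closure (x '' Set.Ico a (a + m))`). -/
theorem U_explicit {G : Type*} [Group G] (x : ℤ → G) (a : ℤ) :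
    U x a 1 = Subgroup.closure {x a} ∧
    U x a 2 = Subgroup.closure {x a, x (a + 1)} ∧
    U x a 3 = Subgroup.closure {x a, x (a + 1), x (a + 2)} ∧
    U x a 4 = Subgroup.closure {x a, x (a + 1), x (a + 2), x (a + 3)} ∧
    U x a 5 = Subgroup.closure {x a, x (a + 1), x (a + 2), x (a + 3), x (a + 4)} :=
  Cfsg.Agent.Helper30.GD.U_explicit x a

/-! ## LEAVES C: abstract group theory (Mathlib + Prelude only) -/

/-- (DC) two involutions generate a group of order at most `2m` if `(a b)^m = 1`: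
`closure {a, b} = zpowers (a*b) ⊔ zpowers a`, `a` inverts `a*b`. -/
theorem card_closure_pair_le {Γ : Type*} [Group Γ] (a b : Γ) (ha : a * a = 1) (hb : b * b = 1)
    (m : ℕ) (hm : 0 < m) (hab : (a * b) ^ m = 1) : Nat.card (Subgroup.closure {a, b}) ≤ 2 * m :=
  Cfsg.Agent.Helper37.GD.card_closure_pair_le a b ha hb m hm hab

/-- (RHO) images of `a`, `b` in `D_n`, `n` odd, are nonidentity involutions, hence reflections `sr i`, `sr j`; their product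
is a rotation, and `(r i)^n = 1`. -/
theorem pow_mem_of_dihedral {Γ : Type*} [Group Γ] (Q : Subgroup Γ) [Q.Normal] {n : ℕ} (hn : Odd n)
    (e : Γ ⧸ Q ≃* DihedralGroup n) (a b : Γ) (ha : a * a = 1) (hb : b * b = 1)
    (haQ : a ∉ Q) (hbQ : b ∉ Q) : (a * b) ^ n ∈ Q :=
  Cfsg.Agent.Helper81.GD.pow_mem_of_dihedral Q hn e a b ha hb haQ hbQ

/-- (DRHO) `ρ = a*b`, `D = zpowers (ρ^(2k))`.  `a ρ a⁻¹ = ρ⁻¹ = b ρ b⁻¹` and `Q` centralizes `ρ^(2k)`: `D` is normal.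
`ρ^(2n) = 1` (`ρ^n ∈ Q`, exponent 2).  The image of `ρ` in `Γ ⧸ Q` has order exactly `n`: it divides `n`, and `Γ ⧸ Q`, of
order `2n`, is generated by the images of `a`, `b`, so `2n ≤ 2 * order` by (DC) `hDC`.  So `orderOf ρ ∈ {n, 2n}` and
`orderOf (ρ^(2k)) = n / k` in both cases (`orderOf_pow`, `k ∣ n`, `n` odd). -/
theorem exists_odd_normal
    {Γ : Type u} [Group Γ] [Finite Γ]
    (hDC : ∀ {Δ : Type u} [Group Δ] (a b : Δ), a * a = 1 → b * b = 1 → ∀ m : ℕ, 0 < m → (a * b) ^ m = 1 →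
      Nat.card (Subgroup.closure {a, b}) ≤ 2 * m)
    (Q : Subgroup Γ) [Q.Normal]
    (hQ2 : ∀ q ∈ Q, q * q = 1) (n : ℕ) (hn : Odd n) (hcard : Nat.card Γ = 2 * n * Nat.card Q)
    (a b : Γ) (ha : a * a = 1) (hb : b * b = 1) (hgen : Subgroup.closure {a, b} ⊔ Q = ⊤)
    (hρ : (a * b) ^ n ∈ Q) (k : ℕ) (hk : k ∣ n) (hcen : ∀ q ∈ Q, Commute ((a * b) ^ k) q) :
    ∃ D : Subgroup Γ, D.Normal ∧ Odd (Nat.card D) ∧
      Nat.card Γ = Nat.card D * (2 * k * Nat.card Q) :=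
  Cfsg.Agent.Helper89.GD.exists_odd_normal hDC Q hQ2 n hn hcard a b ha hb hgen hρ k hk hcen

/-- (CENT) Bezout. -/
theorem commute_of_coprime_pow {Γ : Type*} [Group Γ] (ρ q : Γ) (m n : ℕ) (hmn : Nat.Coprime m n)
    (h1 : Commute (ρ ^ m) q) (h2 : Commute (ρ ^ n) q) : Commute ρ q := by
  have hb : (m : ℤ) * Int.gcdA m n + (n : ℤ) * Int.gcdB m n = 1 := by
    have := Int.gcd_eq_gcd_ab (m : ℤ) n
    rw [Int.gcd_natCast_natCast, hmn] at this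
    simpa using this.symm
  have e : ρ = (ρ ^ m) ^ (Int.gcdA m n) * (ρ ^ n) ^ (Int.gcdB m n) := by
    rw [← zpow_natCast, ← zpow_natCast, ← zpow_mul, ← zpow_mul, ← zpow_add, hb, zpow_one]
  rw [e]
  exact (h1.zpow_left _).mul_left (h2.zpow_left _)

/-- (FIN) `Cfsg.Agent.Helper54.pPrimeCore_eq_of_quotient` + transport of `pPrimeCore 2 _ = ⊥` along `e`
(`Helper54.mem_pPrimeCore_equiv`) + `QuotientGroup.quotientMulEquivOfEq`. -/
theorem quot_oddCore_iso {Γ : Type*} [Group Γ] [Finite Γ] (D : Subgroup Γ) [D.Normal]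
    (hD : Odd (Nat.card D)) {X : Type*} [Group X] (hX : Cfsg.oddCore X = ⊥) (e : Γ ⧸ D ≃* X) :
    Nonempty (Γ ⧸ Cfsg.oddCore Γ ≃* X) :=
  Cfsg.Agent.Helper68.GD.quot_oddCore_iso D hD hX e

/-- (OCS4) a nonidentity element `g` of odd order of `S4` has `g^3 = 1`, and then some commutator `h g h⁻¹ g⁻¹` is an
involution (`decide`); it lies in every normal subgroup containing `g`. -/
theorem oddCore_perm4 : Cfsg.oddCore (Equiv.Perm (Fin 4)) = ⊥ :=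
  Cfsg.Agent.Helper81.GD.oddCore_perm4

/-- (OC2) -/
theorem oddCore_eq_bot_of_isPGroup {A : Type*} [Group A] [Finite A] (h : IsPGroup 2 A) :
    Cfsg.oddCore A = ⊥ :=
  Cfsg.Agent.Helper70.GD.oddCore_eq_bot_of_isPGroup h

/-- (OCPR) the image in `A` of a normal subgroup of odd order is one; so `N ≤ 1 × B`, a 2-group. -/
theorem oddCore_prod_eq_bot {A B : Type*} [Group A] [Group B] [Finite A] [Finite B]
    (hA : Cfsg.oddCore A = ⊥) (hB : IsPGroup 2 B) : Cfsg.oddCore (A × B) = ⊥ :=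
  Cfsg.Agent.Helper87.GD.oddCore_prod_eq_bot hA hB

/-- (K4) order 4 ⇒ abelian; generated by involutions ⇒ exponent 2 ⇒ `IsKleinFour`; `IsKleinFour.nonempty_mulEquiv`. -/
theorem klein_of_card_four {X : Type*} [Group X] (hc : Nat.card X = 4) (s : Set X)
    (hs : ∀ z ∈ s, z * z = 1) (hgen : Subgroup.closure s = ⊤) :
    Nonempty (X ≃* Multiplicative (ZMod 2) × Multiplicative (ZMod 2)) :=
  Cfsg.Agent.Helper30.GD.klein_of_card_four hc s hs hgen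

/-- (QIMG) -/
theorem card_map_mk_of_coprime {Γ : Type*} [Group Γ] [Finite Γ] (Q D : Subgroup Γ) [D.Normal]
    (h : (Nat.card Q).Coprime (Nat.card D)) :
    Nat.card (Q.map (QuotientGroup.mk' D)) = Nat.card Q :=
  Cfsg.Agent.Helper53.GD.card_map_mk_of_coprime Q D h

/-! ## LEAVES W: word computations (conjugation action of `ρ = a0 * a_t` on `Q`) -/

/-- (W3) `a0`: `a1 ↦ a1`, `a2 ↦ a1 a2`; `a3`: `a1 ↦ a1 a2`, `a2 ↦ a2`; so `ρ`: `a1 ↦ a2 ↦ a1 a2 ↦ a1`. -/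
theorem w3 {Γ : Type*} [Group Γ] (a0 a1 a2 a3 : Γ)
    (h0 : a0 * a0 = 1) (h1 : a1 * a1 = 1) (h2 : a2 * a2 = 1) (h3 : a3 * a3 = 1)
    (c01 : Commute a0 a1) (c12 : Commute a1 a2) (c23 : Commute a2 a3)
    (r02 : a0 * a2 * a0 * a2 = a1) (r13 : a1 * a3 * a1 * a3 = a2) :
    (a0 * a3) * a1 * (a0 * a3)⁻¹ = a2 ∧
    Commute ((a0 * a3) ^ 3) a1 ∧ Commute ((a0 * a3) ^ 3) a2 :=
  Cfsg.Agent.Helper65.GD.w3 a0 a1 a2 a3 h0 h1 h2 h3 c01 c12 c23 r02 r13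

/-- (W4A) `ρ`: `a1 ↦ a1 a2`, `a2 ↦ a2`, `a3 ↦ a1 a3`; order 4. -/
theorem w4a {Γ : Type*} [Group Γ] (a0 a1 a2 a3 a4 : Γ)
    (h0 : a0 * a0 = 1) (h1 : a1 * a1 = 1) (h2 : a2 * a2 = 1) (h3 : a3 * a3 = 1) (h4 : a4 * a4 = 1)
    (c01 : Commute a0 a1) (c12 : Commute a1 a2) (c23 : Commute a2 a3) (c34 : Commute a3 a4)
    (c02 : Commute a0 a2) (c13 : Commute a1 a3) (c24 : Commute a2 a4)
    (e03 : a0 * a3 * a0 * a3 = a1) (e14 : a1 * a4 * a1 * a4 = a2) :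
    (a0 * a4) * a3 * (a0 * a4)⁻¹ = a1 * a3 ∧
    Commute ((a0 * a4) ^ 4) a1 ∧ Commute ((a0 * a4) ^ 4) a2 ∧ Commute ((a0 * a4) ^ 4) a3 :=
  Cfsg.Agent.Helper70.GD.w4a a0 a1 a2 a3 a4 h0 h1 h2 h3 h4 c01 c12 c23 c34 c02 c13 c24 e03 e14

/-- (W4B) `ρ`: `a1 ↦ a1 a2 a3`, `a2 ↦ a2`, `a3 ↦ a2 a3`; order 4. -/
theorem w4b {Γ : Type*} [Group Γ] (a0 a1 a2 a3 a4 : Γ)
    (h0 : a0 * a0 = 1) (h1 : a1 * a1 = 1) (h2 : a2 * a2 = 1) (h3 : a3 * a3 = 1) (h4 : a4 * a4 = 1)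
    (c01 : Commute a0 a1) (c12 : Commute a1 a2) (c23 : Commute a2 a3) (c34 : Commute a3 a4)
    (c02 : Commute a0 a2) (c13 : Commute a1 a3) (c24 : Commute a2 a4)
    (e03 : a0 * a3 * a0 * a3 = a2) (e14 : a1 * a4 * a1 * a4 = a3) :
    (a0 * a4) * a3 * (a0 * a4)⁻¹ = a2 * a3 ∧
    Commute ((a0 * a4) ^ 4) a1 ∧ Commute ((a0 * a4) ^ 4) a2 ∧ Commute ((a0 * a4) ^ 4) a3 :=
  Cfsg.Agent.Helper22.GD.w4b a0 a1 a2 a3 a4 h0 h1 h2 h3 h4 c01 c12 c23 c34 c02 c13 c24 e03 e14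

/-- (W4C) `ρ`: `a1 ↦ a3 ↦ a1 a2 a3 ↦ a1`, `a2 ↦ a2`; order 3. -/
theorem w4c {Γ : Type*} [Group Γ] (a0 a1 a2 a3 a4 : Γ)
    (h0 : a0 * a0 = 1) (h1 : a1 * a1 = 1) (h2 : a2 * a2 = 1) (h3 : a3 * a3 = 1) (h4 : a4 * a4 = 1)
    (c01 : Commute a0 a1) (c12 : Commute a1 a2) (c23 : Commute a2 a3) (c34 : Commute a3 a4)
    (c02 : Commute a0 a2) (c13 : Commute a1 a3) (c24 : Commute a2 a4)
    (e03 : a0 * a3 * a0 * a3 = a1 * a2) (e14 : a1 * a4 * a1 * a4 = a2 * a3) :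
    (a0 * a4) * a1 * (a0 * a4)⁻¹ = a3 ∧
    Commute ((a0 * a4) ^ 3) a1 ∧ Commute ((a0 * a4) ^ 3) a2 ∧ Commute ((a0 * a4) ^ 3) a3 :=
  Cfsg.Agent.Helper22.GD.w4c a0 a1 a2 a3 a4 h0 h1 h2 h3 h4 c01 c12 c23 c34 c02 c13 c24 e03 e14

end Cfsg.Agent.Helper42.GD.Skel
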