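import Mathlib
import Cfsg.Prelude.Def_Solvable
import Cfsg.Prelude.Def_CaseTheorems
import Cfsg.Agent.Helper42.GD.Leaves
import Cfsg.Agent.Helper50.Sims3_P5a
import Cfsg.Agent.Helper93.Sims3_ID4
import Cfsg.Agent.Helper48.Sims3_ID5

/-!
# S4385: the abstract identification (`Γ = ↥H`), cases `t = 2, 3, 4`
-/

set_option autoImplicit false

universe u

namespace Cfsg.Agent.Helper42.GD

open Pointwise Cfsg Cfsg.Agent.Helper42.GD.Skel

section general

variable {Γ : Type u} [Group Γ] [Finite Γ]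

theorem abs_card_of_dihedral (Q : Subgroup Γ) [Q.Normal] {n : ℕ}
    (e : Γ ⧸ Q ≃* DihedralGroup n) : Nat.card Γ = 2 * n * Nat.card Q := by
  rw [Subgroup.card_eq_card_quotient_mul_card_subgroup Q, Nat.card_congr e.toEquiv,
    DihedralGroup.nat_card]

theorem abs_commute_of_sq {Q : Subgroup Γ} (hQ2 : ∀ q ∈ Q, q * q = 1) {p q : Γ} (hp : p ∈ Q)
    (hq : q ∈ Q) : Commute p q := by
  have h1 := hQ2 (p * q) (Q.mul_mem hp hq)
  have h2 := hQ2 p hp
  have h3 := hQ2 q hq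
  show p * q = q * p
  have e1 : p * q = (p * q)⁻¹ := (inv_eq_of_mul_eq_one_right h1).symm
  have e2 : p⁻¹ = p := inv_eq_of_mul_eq_one_right h2
  have e3 : q⁻¹ = q := inv_eq_of_mul_eq_one_right h3
  rw [e1, mul_inv_rev, e2, e3]

/-- the normal subgroup `D` of odd order -/
theorem abs_exists_D {n : ℕ} (hn : Odd n) (e : Γ ⧸ Cfsg.pCore 2 Γ ≃* DihedralGroup n)
    (a b : Γ) (ha : a * a = 1) (hb : b * b = 1)
    (haQ : a ∉ Cfsg.pCore 2 Γ) (hbQ : b ∉ Cfsg.pCore 2 Γ)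
    (hQ2 : ∀ q ∈ Cfsg.pCore 2 Γ, q * q = 1)
    (hgen : Subgroup.closure {a, b} ⊔ Cfsg.pCore 2 Γ = ⊤)
    (k : ℕ) (hk : k ∣ n) (hcen : ∀ q ∈ Cfsg.pCore 2 Γ, Commute ((a * b) ^ k) q) :
    ∃ D : Subgroup Γ, D.Normal ∧ Odd (Nat.card D) ∧
      Nat.card Γ = Nat.card D * (2 * k * Nat.card (Cfsg.pCore 2 Γ)) :=
  exists_odd_normal (fun a b ha hb m hm hab => card_closure_pair_le a b ha hb m hm hab)
    (Cfsg.pCore 2 Γ) hQ2 n hn (abs_card_of_dihedral _ e) a b ha hb hgen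
    (pow_mem_of_dihedral _ hn e a b ha hb haQ hbQ) k hk hcen

/-- `3 ∣ n` (resp. a contradiction) when `ρ^k` centralizes `Q` but `ρ` does not -/
theorem abs_not_coprime {n : ℕ} (hn : Odd n) (e : Γ ⧸ Cfsg.pCore 2 Γ ≃* DihedralGroup n)
    (a b : Γ) (ha : a * a = 1) (hb : b * b = 1)
    (haQ : a ∉ Cfsg.pCore 2 Γ) (hbQ : b ∉ Cfsg.pCore 2 Γ)
    (hQ2 : ∀ q ∈ Cfsg.pCore 2 Γ, q * q = 1)
    (k : ℕ) (q : Γ) (hq : q ∈ Cfsg.pCore 2 Γ) (hcen : Commute ((a * b) ^ k) q)
    (hnc : ¬ Commute (a * b) q) : ¬ Nat.Coprime k n := by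
  intro hc
  have hρ := pow_mem_of_dihedral _ hn e a b ha hb haQ hbQ
  exact hnc (commute_of_coprime_pow (a * b) q k n hc hcen (abs_commute_of_sq hQ2 hρ hq))

theorem abs_not_mem_of_odd {D : Subgroup Γ} (hD : Odd (Nat.card D)) {a : Γ} (ha : a * a = 1)
    (ha1 : a ≠ 1) : a ∉ D := by
  intro haD
  have h2 : orderOf a = 2 := by
    apply orderOf_eq_prime
    · rw [pow_two]; exact ha
    · exact ha1
  have h3 : orderOf (⟨a, haD⟩ : D) = 2 := by
    rw [← h2]
    exact Subgroup.orderOf_mk a haD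
  have h4 : 2 ∣ Nat.card D := h3 ▸ orderOf_dvd_natCard _
  rcases hD with ⟨m, hm⟩
  omega

theorem abs_map_closure_top (D : Subgroup Γ) [D.Normal] {s : Set Γ}
    (hs : Subgroup.closure s = ⊤) :
    Subgroup.closure ((QuotientGroup.mk' D) '' s) = ⊤ := by
  rw [← MonoidHom.map_closure, hs]
  exact Subgroup.map_top_of_surjective _ (QuotientGroup.mk'_surjective D)

theorem abs_card_quot (D : Subgroup Γ) [D.Normal] {m : ℕ}
    (h : Nat.card Γ = Nat.card D * m) : Nat.card (Γ ⧸ D) = m := by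
  have h1 := Subgroup.card_eq_card_quotient_mul_card_subgroup D
  have h2 : 0 < Nat.card D := Nat.card_pos
  rw [h, mul_comm] at h1
  exact (Nat.eq_of_mul_eq_mul_right h2 h1).symm

end general

section cases

variable {Γ : Type u} [Group Γ] [Finite Γ]

/-- `closure {a, b} ⊔ closure s = ⊤` from `closure (insert a (insert b s))`-style generation -/
theorem abs_gen_split {a b : Γ} {s t : Set Γ} (ht : t ⊆ insert a (insert b s))
    (hgen : Subgroup.closure t = ⊤) : Subgroup.closure {a, b} ⊔ Subgroup.closure s = ⊤ := by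
  rw [eq_top_iff, ← hgen, Subgroup.closure_le]
  intro z hz
  rcases ht hz with rfl | rfl | hz
  · exact Subgroup.mem_sup_left (Subgroup.subset_closure (by simp))
  · exact Subgroup.mem_sup_left (Subgroup.subset_closure (by simp))
  · exact Subgroup.mem_sup_right (Subgroup.subset_closure hz)

/-- case `t = 2` -/
theorem ab2 {n : ℕ} (hn : Odd n) (e : Γ ⧸ Cfsg.pCore 2 Γ ≃* DihedralGroup n) (a0 a1 a2 : Γ)
    (h0 : a0 * a0 = 1) (h1 : a1 * a1 = 1) (h2 : a2 * a2 = 1)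
    (c01 : Commute a0 a1) (c12 : Commute a1 a2)
    (hgen : Subgroup.closure {a0, a1, a2} = ⊤)
    (hQ : Cfsg.pCore 2 Γ = Subgroup.closure {a1}) (hQc : Nat.card (Cfsg.pCore 2 Γ) = 2)
    (ha0 : a0 ∉ Cfsg.pCore 2 Γ) (ha2 : a2 ∉ Cfsg.pCore 2 Γ) :
    Nonempty (Γ ⧸ Cfsg.oddCore Γ ≃* Multiplicative (ZMod 2) × Multiplicative (ZMod 2)) := by
  have hQ2 : ∀ q ∈ Cfsg.pCore 2 Γ, q * q = 1 := by
    rw [hQ]
    apply Cfsg.Agent.Helper50.Sims3.p5_sq_closure
    · intro z hz; rw [Set.mem_singleton_iff] at hz; rw [hz]; exact h1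
    · intro z hz w hw
      rw [Set.mem_singleton_iff] at hz hw; rw [hz, hw]
  have hgen' : Subgroup.closure {a0, a2} ⊔ Cfsg.pCore 2 Γ = ⊤ := by
    rw [hQ]
    refine abs_gen_split ?_ hgen
    intro z hz
    simp only [Set.mem_insert_iff, Set.mem_singleton_iff] at hz ⊢
    tauto
  have hcen : ∀ q ∈ Cfsg.pCore 2 Γ, Commute ((a0 * a2) ^ 1) q := by
    rw [hQ, pow_one]
    apply Cfsg.Agent.Helper50.Sims3.p5_comm_closure
    intro z hz; rw [Set.mem_singleton_iff] at hz; rw [hz]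
    exact c01.mul_left c12.symm
  obtain ⟨D, hDn, hDo, hDc⟩ := abs_exists_D hn e a0 a2 h0 h2 ha0 ha2 hQ2 hgen' 1 (one_dvd n) hcen
  have hc4 : Nat.card (Γ ⧸ D) = 4 := by
    apply abs_card_quot D
    rw [hDc, hQc]
  have hX : Cfsg.oddCore (Multiplicative (ZMod 2) × Multiplicative (ZMod 2)) = ⊥ := by
    apply oddCore_eq_bot_of_isPGroup
    apply IsPGroup.of_card (n := 2)
    rw [Nat.card_prod]
    simp
  obtain ⟨f⟩ := klein_of_card_four hc4 ((QuotientGroup.mk' D) '' {a0, a1, a2}) (by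
      rintro z ⟨w, hw, rfl⟩
      simp only [Set.mem_insert_iff, Set.mem_singleton_iff] at hw
      rw [← map_mul]
      rcases hw with rfl | rfl | rfl
      · rw [h0, map_one]
      · rw [h1, map_one]
      · rw [h2, map_one]) (abs_map_closure_top D hgen)
  exact quot_oddCore_iso D hDo hX f

/-- case `t = 3` -/
theorem ab3 {n : ℕ} (hn : Odd n) (e : Γ ⧸ Cfsg.pCore 2 Γ ≃* DihedralGroup n) (a0 a1 a2 a3 : Γ)
    (h0 : a0 * a0 = 1) (h1 : a1 * a1 = 1) (h2 : a2 * a2 = 1) (h3 : a3 * a3 = 1)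
    (c01 : Commute a0 a1) (c12 : Commute a1 a2) (c23 : Commute a2 a3)
    (r02 : a0 * a2 * a0 * a2 = a1) (r13 : a1 * a3 * a1 * a3 = a2)
    (hgen : Subgroup.closure {a0, a1, a2, a3} = ⊤)
    (hQ : Cfsg.pCore 2 Γ = Subgroup.closure {a1, a2}) (hQc : Nat.card (Cfsg.pCore 2 Γ) = 4)
    (ha0 : a0 ∉ Cfsg.pCore 2 Γ) (ha3 : a3 ∉ Cfsg.pCore 2 Γ)
    (hne1 : a1 ≠ 1) (hne12 : a1 ≠ a2) :
    Nonempty (Γ ⧸ Cfsg.oddCore Γ ≃* Equiv.Perm (Fin 4)) := by
  have hQ2 : ∀ q ∈ Cfsg.pCore 2 Γ, q * q = 1 := by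
    rw [hQ]
    apply Cfsg.Agent.Helper50.Sims3.p5_sq_closure
    · intro z hz
      simp only [Set.mem_insert_iff, Set.mem_singleton_iff] at hz
      rcases hz with rfl | rfl
      · exact h1
      · exact h2
    · intro z hz w hw
      simp only [Set.mem_insert_iff, Set.mem_singleton_iff] at hz hw
      rcases hz with rfl | rfl <;> rcases hw with rfl | rfl
      · exact Commute.refl _
      · exact c12
      · exact c12.symm
      · exact Commute.refl _
  have hgen' : Subgroup.closure {a0, a3} ⊔ Cfsg.pCore 2 Γ = ⊤ := by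
    rw [hQ]
    refine abs_gen_split ?_ hgen
    intro z hz
    simp only [Set.mem_insert_iff, Set.mem_singleton_iff] at hz ⊢
    tauto
  obtain ⟨w1, w2, w3⟩ := w3 a0 a1 a2 a3 h0 h1 h2 h3 c01 c12 c23 r02 r13
  have ha1Q : a1 ∈ Cfsg.pCore 2 Γ := by rw [hQ]; exact Subgroup.subset_closure (by simp)
  have hnc : ¬ Commute (a0 * a3) a1 := by
    intro hc
    apply hne12
    rw [← w1, hc.eq, mul_inv_cancel_right]
  have h3n : 3 ∣ n := by
    by_contra hnd
    exact abs_not_coprime hn e a0 a3 h0 h3 ha0 ha3 hQ2 3 a1 ha1Q w2 hnc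
      ((Nat.Prime.coprime_iff_not_dvd Nat.prime_three).mpr hnd)
  have hcen : ∀ q ∈ Cfsg.pCore 2 Γ, Commute ((a0 * a3) ^ 3) q := by
    rw [hQ]
    apply Cfsg.Agent.Helper50.Sims3.p5_comm_closure
    intro z hz
    simp only [Set.mem_insert_iff, Set.mem_singleton_iff] at hz
    rcases hz with rfl | rfl
    · exact w2
    · exact w3
  obtain ⟨D, hDn, hDo, hDc⟩ := abs_exists_D hn e a0 a3 h0 h3 ha0 ha3 hQ2 hgen' 3 h3n hcen
  have hc24 : Nat.card (Γ ⧸ D) = 24 := by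
    apply abs_card_quot D
    rw [hDc, hQc]
  have hmk : ∀ {u v : Γ}, u = v → (QuotientGroup.mk' D u) = (QuotientGroup.mk' D v) :=
    fun h => by rw [h]
  have hgenD : Subgroup.closure {QuotientGroup.mk' D a0, QuotientGroup.mk' D a1,
      QuotientGroup.mk' D a2, QuotientGroup.mk' D a3} = ⊤ := by
    have := abs_map_closure_top D hgen
    simpa [Set.image_insert_eq] using this
  obtain ⟨f⟩ := Cfsg.Agent.Helper93.Sims3.iso_S4 hc24 (QuotientGroup.mk' D a0)
    (QuotientGroup.mk' D a1) (QuotientGroup.mk' D a2) (QuotientGroup.mk' D a3)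
    (by rw [← map_mul, h0, map_one]) (by rw [← map_mul, h1, map_one])
    (by rw [← map_mul, h2, map_one]) (by rw [← map_mul, h3, map_one])
    (by
      intro h
      rw [QuotientGroup.mk'_apply, QuotientGroup.eq_one_iff] at h
      exact abs_not_mem_of_odd hDo h1 hne1 h)
    (c01.map _) (c12.map _) (c23.map _)
    (by simp only [← map_mul]; exact hmk r02) (by simp only [← map_mul]; exact hmk r13) hgenD
  exact quot_oddCore_iso D hDo oddCore_perm4 f

/-- case `t = 4` -/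
theorem ab4 {n : ℕ} (hn : Odd n) (e : Γ ⧸ Cfsg.pCore 2 Γ ≃* DihedralGroup n)
    (a0 a1 a2 a3 a4 : Γ)
    (h0 : a0 * a0 = 1) (h1 : a1 * a1 = 1) (h2 : a2 * a2 = 1) (h3 : a3 * a3 = 1)
    (h4 : a4 * a4 = 1)
    (c01 : Commute a0 a1) (c12 : Commute a1 a2) (c23 : Commute a2 a3) (c34 : Commute a3 a4)
    (c02 : Commute a0 a2) (c13 : Commute a1 a3) (c24 : Commute a2 a4)
    (hrel : (a0 * a3 * a0 * a3 = a1 ∧ a1 * a4 * a1 * a4 = a2) ∨
      (a0 * a3 * a0 * a3 = a2 ∧ a1 * a4 * a1 * a4 = a3) ∨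
      (a0 * a3 * a0 * a3 = a1 * a2 ∧ a1 * a4 * a1 * a4 = a2 * a3))
    (hgen : Subgroup.closure {a0, a1, a2, a3, a4} = ⊤)
    (hQ : Cfsg.pCore 2 Γ = Subgroup.closure {a1, a2, a3}) (hQc : Nat.card (Cfsg.pCore 2 Γ) = 8)
    (ha0 : a0 ∉ Cfsg.pCore 2 Γ) (ha4 : a4 ∉ Cfsg.pCore 2 Γ)
    (hne1 : a1 ≠ 1) (hne2 : a2 ≠ 1) (hne13 : a1 ≠ a3) :
    Nonempty (Γ ⧸ Cfsg.oddCore Γ ≃* Equiv.Perm (Fin 4) × Multiplicative (ZMod 2)) := by
  have hQ2 : ∀ q ∈ Cfsg.pCore 2 Γ, q * q = 1 := by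
    rw [hQ]
    apply Cfsg.Agent.Helper50.Sims3.p5_sq_closure
    · intro z hz
      simp only [Set.mem_insert_iff, Set.mem_singleton_iff] at hz
      rcases hz with rfl | rfl | rfl
      · exact h1
      · exact h2
      · exact h3
    · intro z hz w hw
      simp only [Set.mem_insert_iff, Set.mem_singleton_iff] at hz hw
      rcases hz with rfl | rfl | rfl <;> rcases hw with rfl | rfl | rfl
      · exact Commute.refl _
      · exact c12
      · exact c13
      · exact c12.symm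
      · exact Commute.refl _
      · exact c23
      · exact c13.symm
      · exact c23.symm
      · exact Commute.refl _
  have hgen' : Subgroup.closure {a0, a4} ⊔ Cfsg.pCore 2 Γ = ⊤ := by
    rw [hQ]
    refine abs_gen_split ?_ hgen
    intro z hz
    simp only [Set.mem_insert_iff, Set.mem_singleton_iff] at hz ⊢
    tauto
  have ha1Q : a1 ∈ Cfsg.pCore 2 Γ := by rw [hQ]; exact Subgroup.subset_closure (by simp)
  have ha3Q : a3 ∈ Cfsg.pCore 2 Γ := by rw [hQ]; exact Subgroup.subset_closure (by simp)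
  have hcop4 : Nat.Coprime 4 n := by
    have : Nat.Coprime 2 n := (Nat.coprime_two_left).mpr hn
    exact Nat.Coprime.pow_left 2 this
  rcases hrel with ⟨e03, e14⟩ | ⟨e03, e14⟩ | ⟨e03, e14⟩
  · exfalso
    obtain ⟨w0, -, -, w3⟩ := w4a a0 a1 a2 a3 a4 h0 h1 h2 h3 h4 c01 c12 c23 c34 c02 c13 c24 e03 e14
    refine abs_not_coprime hn e a0 a4 h0 h4 ha0 ha4 hQ2 4 a3 ha3Q w3 ?_ hcop4
    intro hc
    apply hne1
    rw [hc.eq, mul_inv_cancel_right] at w0
    exact (mul_eq_right.mp w0.symm)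
  · exfalso
    obtain ⟨w0, -, -, w3⟩ := w4b a0 a1 a2 a3 a4 h0 h1 h2 h3 h4 c01 c12 c23 c34 c02 c13 c24 e03 e14
    refine abs_not_coprime hn e a0 a4 h0 h4 ha0 ha4 hQ2 4 a3 ha3Q w3 ?_ hcop4
    intro hc
    apply hne2
    rw [hc.eq, mul_inv_cancel_right] at w0
    exact (mul_eq_right.mp w0.symm)
  · obtain ⟨w0, w1, w2, w3⟩ :=
      w4c a0 a1 a2 a3 a4 h0 h1 h2 h3 h4 c01 c12 c23 c34 c02 c13 c24 e03 e14
    have hnc : ¬ Commute (a0 * a4) a1 := by
      intro hc
      apply hne13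
      rw [← w0, hc.eq, mul_inv_cancel_right]
    have h3n : 3 ∣ n := by
      by_contra hnd
      exact abs_not_coprime hn e a0 a4 h0 h4 ha0 ha4 hQ2 3 a1 ha1Q w1 hnc
        ((Nat.Prime.coprime_iff_not_dvd Nat.prime_three).mpr hnd)
    have hcen : ∀ q ∈ Cfsg.pCore 2 Γ, Commute ((a0 * a4) ^ 3) q := by
      rw [hQ]
      apply Cfsg.Agent.Helper50.Sims3.p5_comm_closure
      intro z hz
      simp only [Set.mem_insert_iff, Set.mem_singleton_iff] at hz
      rcases hz with rfl | rfl | rfl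
      · exact w1
      · exact w2
      · exact w3
    obtain ⟨D, hDn, hDo, hDc⟩ := abs_exists_D hn e a0 a4 h0 h4 ha0 ha4 hQ2 hgen' 3 h3n hcen
    have hc48 : Nat.card (Γ ⧸ D) = 48 := by
      apply abs_card_quot D
      rw [hDc, hQc]
    have hmk : ∀ {u v : Γ}, u = v → (QuotientGroup.mk' D u) = (QuotientGroup.mk' D v) :=
      fun h => by rw [h]
    have hgenD : Subgroup.closure {QuotientGroup.mk' D a0, QuotientGroup.mk' D a1,
        QuotientGroup.mk' D a2, QuotientGroup.mk' D a3, QuotientGroup.mk' D a4} = ⊤ := by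
      have := abs_map_closure_top D hgen
      simpa [Set.image_insert_eq] using this
    have hK : Nat.card ↥(Subgroup.closure {QuotientGroup.mk' D a1, QuotientGroup.mk' D a2,
        QuotientGroup.mk' D a3}) = 8 := by
      have h8 := card_map_mk_of_coprime (Cfsg.pCore 2 Γ) D (by
        rw [hQc]
        have : Nat.Coprime 2 (Nat.card D) := (Nat.coprime_two_left).mpr hDo
        exact Nat.Coprime.pow_left 3 this)
      rw [hQc, hQ, MonoidHom.map_closure] at h8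
      simpa [Set.image_insert_eq] using h8
    obtain ⟨f⟩ := Cfsg.Agent.Helper48.Sims3.iso_S4xZ2 hc48 (QuotientGroup.mk' D a0)
      (QuotientGroup.mk' D a1) (QuotientGroup.mk' D a2) (QuotientGroup.mk' D a3)
      (QuotientGroup.mk' D a4)
      (by rw [← map_mul, h0, map_one]) (by rw [← map_mul, h1, map_one])
      (by rw [← map_mul, h2, map_one]) (by rw [← map_mul, h3, map_one])
      (by rw [← map_mul, h4, map_one])
      (c01.map _) (c12.map _) (c23.map _) (c34.map _) (c02.map _) (c13.map _) (c24.map _) hK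
      (Or.inr (Or.inr ⟨by simp only [← map_mul]; exact hmk e03,
        by simp only [← map_mul]; exact hmk e14⟩)) hgenD
    have hX : Cfsg.oddCore (Equiv.Perm (Fin 4) × Multiplicative (ZMod 2)) = ⊥ := by
      apply oddCore_prod_eq_bot oddCore_perm4
      apply IsPGroup.of_card (n := 1)
      simp
    exact quot_oddCore_iso D hDo hX f

end cases

end Cfsg.Agent.Helper42.GD
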