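import Mathlib
import Cfsg.Prelude.Def_Solvable
import Cfsg.Prelude.Def_CaseTheorems
import Cfsg.Agent.Helper42.GD.Abs

/-!
# S4385: from the tower to the abstract identification, and the final statement
-/

set_option autoImplicit false

universe u

namespace Cfsg.Agent.Helper42.GD

open Pointwise Cfsg Cfsg.Agent.Helper8.Sims3 Cfsg.Agent.Helper8.Glaub Cfsg.Agent.Helper42.GD.Skel

section tower

variable {G : Type u} [Group G] [Finite G] {H P : Subgroup G} {h : G} {t : ℕ} {x : ℤ → G}

theorem Tow.not_mem_right_U (T : Tow H P h t x) (a : ℤ) (m : ℕ) (hm : m < t) :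
    x a ∉ U x (a + 1) m := by
  intro hx
  have h1 : U x a (m + 1) ≤ U x (a + 1) m := by
    rw [U_succ_left]
    exact sup_le ((Subgroup.zpowers_le).mpr hx) le_rfl
  have h2 := Subgroup.card_le_of_le h1
  rw [T.pt.card a (m + 1) (by omega), T.pt.card (a + 1) m (by omega), pow_succ] at h2
  have : 0 < 2 ^ m := by positivity
  omega

theorem Tow.not_mem_left_U (T : Tow H P h t x) (a : ℤ) (m : ℕ) (hm : m < t) :
    x (a + m) ∉ U x a m := by
  intro hx
  have h1 : U x a (m + 1) ≤ U x a m := by
    rw [U_succ]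
    exact sup_le le_rfl ((Subgroup.zpowers_le).mpr hx)
  have h2 := Subgroup.card_le_of_le h1
  rw [T.pt.card a (m + 1) (by omega), T.pt.card a m (by omega), pow_succ] at h2
  have : 0 < 2 ^ m := by positivity
  omega

end tower

section lift

variable {G : Type u} [Group G] (H : Subgroup G)

/-- the lift of `x k` to `↥H` -/
noncomputable def lft (x : ℤ → G) (k : ℤ) : ↥H :=
  open Classical in if hk : x k ∈ H then ⟨x k, hk⟩ else 1

theorem lft_coe {x : ℤ → G} {k : ℤ} (hk : x k ∈ H) : ((lft H x k : ↥H) : G) = x k := by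
  unfold lft
  rw [dif_pos hk]

theorem lft_eq {x : ℤ → G} {k : ℤ} (hk : x k ∈ H) : lft H x k = ⟨x k, hk⟩ :=
  Subtype.ext (lft_coe H hk)

/-- closures in `↥H` and in `G` -/
theorem closure_eq_of_map {s : Set ↥H} {K : Subgroup ↥H} {K' : Subgroup G}
    (hK : K.map H.subtype = K') (hs : Subgroup.closure (Subtype.val '' s) = K') :
    K = Subgroup.closure s := by
  apply Subgroup.map_injective H.subtype_injective
  rw [hK, MonoidHom.map_closure, ← hs]
  rfl

end lift

section main

variable {G : Type u} [Group G] [Finite G]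

theorem top_map_subtype (H : Subgroup G) : (⊤ : Subgroup ↥H).map H.subtype = H := by
  rw [← MonoidHom.range_eq_map, Subgroup.range_subtype]

theorem main (H : Subgroup G) (hO : Cfsg.pCore 2 ↥H ≠ ⊥) (n : ℕ) (hn : 2 ≤ n)
    (hdih : Nonempty (↥H ⧸ Cfsg.pCore 2 ↥H ≃* DihedralGroup n))
    (P : Subgroup G) (hPH : P ≤ H) (hP : IsPGroup 2 P) (hPsyl : ¬ 2 ∣ P.relIndex H)
    (y : G)
    (hy2 : y ^ 2 ∈ P ⊔ Subgroup.centralizer (P : Set G)) (hyN : MulAut.conj y • P = P)
    (hyQ : ∀ Q : Subgroup G, Q ≤ P → (Q.subgroupOf H).Normal → MulAut.conj y • Q = Q → Q = ⊥) :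
    (Nat.card P = 4 ∨ Nat.card P = 8 ∨ Nat.card P = 16) ∧
    (Nonempty (↥H ⧸ Cfsg.oddCore ↥H ≃* Multiplicative (ZMod 2) × Multiplicative (ZMod 2)) ∨
     Nonempty (↥H ⧸ Cfsg.oddCore ↥H ≃* Equiv.Perm (Fin 4)) ∨
     Nonempty (↥H ⧸ Cfsg.oddCore ↥H ≃* Equiv.Perm (Fin 4) × Multiplicative (ZMod 2))) := by
  obtain ⟨e⟩ := hdih
  have hodd : Odd n := odd_of_dihedral hn e
  have hn3 : 3 ≤ n := by rcases hodd with ⟨m, hm⟩; omega
  have hS : IsPGroup 2 (P.subgroupOf H) := hP.comap_subtype
  have hidx : ¬ 2 ∣ (P.subgroupOf H).index := hPsyl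
  obtain ⟨h1, h2, h3⟩ := card_sylow_dihedral (P.subgroupOf H) hS hidx hodd e
  obtain ⟨g, h4, h5⟩ := exists_conj_gen_inf (P.subgroupOf H) h1 h2 hodd hn3 e
  obtain ⟨b1, b2, b3, b4, b5, b6⟩ := bridge H P hPH n h1 h2 h3 g h4 h5
  obtain ⟨Q, hQdef⟩ : ∃ Q : Subgroup G, Q = (Cfsg.pCore 2 ↥H).map H.subtype := ⟨_, rfl⟩
  rw [← hQdef] at b1 b2 b4 b6
  have hh : Hyp H P y (g : G) := ⟨hPH, g.2, hyN, hy2, b5, hyQ⟩
  obtain ⟨t, x, ht, T, hc, hUQ⟩ := hh.exists_tow Q b6 b4 b2
  obtain ⟨ht6, ht5⟩ := T.bound ht
  have hQne : Q ≠ ⊥ := by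
    intro h0
    apply hO
    rw [hQdef] at h0
    exact (Subgroup.map_eq_bot_iff_of_injective _ H.subtype_injective).mp h0
  have hcardQ : Nat.card (Cfsg.pCore 2 ↥H) = Nat.card Q := by
    rw [hQdef]
    exact (Subgroup.card_map_of_injective H.subtype_injective).symm
  have hmemQ : ∀ a : ↥H, a ∈ Cfsg.pCore 2 ↥H → (a : G) ∈ Q := by
    intro a ha
    rw [hQdef]
    exact Subgroup.mem_map_of_mem H.subtype ha
  have ht' : t = 1 ∨ t = 2 ∨ t = 3 ∨ t = 4 ∨ t = 6 := by omega
  rcases ht' with rfl | rfl | rfl | rfl | rfl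
  · exfalso
    apply hQne
    rw [← hUQ]
    exact U_zero 1
  · -- `t = 2`
    refine ⟨Or.inl (by rw [hc]; norm_num), Or.inl ?_⟩
    have L := T.lam_two
    have hx0 : x 0 ∈ H := T.mem_H (by norm_num) (by norm_num)
    have hx1 : x 1 ∈ H := T.mem_H (by norm_num) (by norm_num)
    have hx2 : x 2 ∈ H := T.mem_H (by norm_num) (by norm_num)
    have hUQ' : U x 1 1 = Q := hUQ
    obtain ⟨E1, -, -, -, -⟩ := U_explicit x 1
    obtain ⟨-, -, E03, -, -⟩ := U_explicit x 0
    norm_num at E03
    refine ab2 hodd e (lft H x 0) (lft H x 1) (lft H x 2) ?_ ?_ ?_ ?_ ?_ ?_ ?_ ?_ ?_ ?_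
    · exact Subtype.ext (by rw [Subgroup.coe_mul, lft_coe H hx0, T.sq (by norm_num)]; rfl)
    · exact Subtype.ext (by rw [Subgroup.coe_mul, lft_coe H hx1, T.sq (by norm_num)]; rfl)
    · exact Subtype.ext (by rw [Subgroup.coe_mul, lft_coe H hx2, T.sq (by norm_num)]; rfl)
    · exact Subtype.ext (by
        simp only [Subgroup.coe_mul, lft_coe H hx0, lft_coe H hx1]
        exact (L.commute (by norm_num)).eq)
    · exact Subtype.ext (by
        simp only [Subgroup.coe_mul, lft_coe H hx1, lft_coe H hx2]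
        exact (L.commute (by norm_num)).eq)
    · refine (closure_eq_of_map H (top_map_subtype H) ?_).symm
      simp only [Set.image_insert_eq, Set.image_singleton, lft_coe H hx0, lft_coe H hx1,
        lft_coe H hx2]
      rw [← E03, T.hH]
    · refine closure_eq_of_map H hQdef.symm ?_
      simp only [Set.image_singleton, lft_coe H hx1]
      rw [← E1, hUQ']
    · rw [hcardQ, ← hUQ', T.pt.card 1 1 (by norm_num)]; norm_num
    · intro ha
      have := hmemQ _ ha
      rw [lft_coe H hx0, ← hUQ'] at this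
      exact T.not_mem_right_U 0 1 (by norm_num) (by simpa using this)
    · intro ha
      have := hmemQ _ ha
      rw [lft_coe H hx2, ← hUQ'] at this
      exact T.not_mem_left_U 1 1 (by norm_num) (by simpa using this)
  · -- `t = 3`
    refine ⟨Or.inr (Or.inl (by rw [hc]; norm_num)), Or.inr (Or.inl ?_)⟩
    have L := T.lam_three
    have hx0 : x 0 ∈ H := T.mem_H (by norm_num) (by norm_num)
    have hx1 : x 1 ∈ H := T.mem_H (by norm_num) (by norm_num)
    have hx2 : x 2 ∈ H := T.mem_H (by norm_num) (by norm_num)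
    have hx3 : x 3 ∈ H := T.mem_H (by norm_num) (by norm_num)
    have hUQ' : U x 1 2 = Q := hUQ
    obtain ⟨-, E12, -, -, -⟩ := U_explicit x 1
    obtain ⟨-, -, -, E04, -⟩ := U_explicit x 0
    norm_num at E04 E12
    obtain ⟨r02, r13⟩ := rel3 T
    refine ab3 hodd e (lft H x 0) (lft H x 1) (lft H x 2) (lft H x 3)
      ?_ ?_ ?_ ?_ ?_ ?_ ?_ ?_ ?_ ?_ ?_ ?_ ?_ ?_ ?_ ?_
    · exact Subtype.ext (by rw [Subgroup.coe_mul, lft_coe H hx0, T.sq (by norm_num)]; rfl)
    · exact Subtype.ext (by rw [Subgroup.coe_mul, lft_coe H hx1, T.sq (by norm_num)]; rfl)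
    · exact Subtype.ext (by rw [Subgroup.coe_mul, lft_coe H hx2, T.sq (by norm_num)]; rfl)
    · exact Subtype.ext (by rw [Subgroup.coe_mul, lft_coe H hx3, T.sq (by norm_num)]; rfl)
    · exact Subtype.ext (by
        simp only [Subgroup.coe_mul, lft_coe H hx0, lft_coe H hx1]
        exact (L.commute (by norm_num)).eq)
    · exact Subtype.ext (by
        simp only [Subgroup.coe_mul, lft_coe H hx1, lft_coe H hx2]
        exact (L.commute (by norm_num)).eq)
    · exact Subtype.ext (by
        simp only [Subgroup.coe_mul, lft_coe H hx2, lft_coe H hx3]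
        exact (L.commute (by norm_num)).eq)
    · exact Subtype.ext (by
        simp only [Subgroup.coe_mul, lft_coe H hx0, lft_coe H hx1, lft_coe H hx2]
        exact r02)
    · exact Subtype.ext (by
        simp only [Subgroup.coe_mul, lft_coe H hx1, lft_coe H hx2, lft_coe H hx3]
        exact r13)
    · refine (closure_eq_of_map H (top_map_subtype H) ?_).symm
      simp only [Set.image_insert_eq, Set.image_singleton, lft_coe H hx0, lft_coe H hx1,
        lft_coe H hx2, lft_coe H hx3]
      rw [← E04, T.hH]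
    · refine closure_eq_of_map H hQdef.symm ?_
      simp only [Set.image_insert_eq, Set.image_singleton, lft_coe H hx1, lft_coe H hx2]
      rw [← E12, hUQ']
    · rw [hcardQ, ← hUQ', T.pt.card 1 2 (by norm_num)]; norm_num
    · intro ha
      have := hmemQ _ ha
      rw [lft_coe H hx0, ← hUQ'] at this
      exact T.not_mem_right_U 0 2 (by norm_num) (by simpa using this)
    · intro ha
      have := hmemQ _ ha
      rw [lft_coe H hx3, ← hUQ'] at this
      exact T.not_mem_left_U 1 2 (by norm_num) (by simpa using this)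
    · intro h0
      have := congrArg (Subtype.val) h0
      rw [lft_coe H hx1] at this
      exact T.ne_one (by norm_num) 1 this
    · intro h0
      have := congrArg (Subtype.val) h0
      rw [lft_coe H hx1, lft_coe H hx2] at this
      have h1 : x 1 ∈ U x 1 1 := mem_U_self x le_rfl (by norm_num)
      rw [this] at h1
      exact T.not_mem_left_U 1 1 (by norm_num) (by simpa using h1)
  · -- `t = 4`
    refine ⟨Or.inr (Or.inr (by rw [hc]; norm_num)), Or.inr (Or.inr ?_)⟩
    have L := T.lam_four
    have hx0 : x 0 ∈ H := T.mem_H (by norm_num) (by norm_num)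
    have hx1 : x 1 ∈ H := T.mem_H (by norm_num) (by norm_num)
    have hx2 : x 2 ∈ H := T.mem_H (by norm_num) (by norm_num)
    have hx3 : x 3 ∈ H := T.mem_H (by norm_num) (by norm_num)
    have hx4 : x 4 ∈ H := T.mem_H (by norm_num) (by norm_num)
    have hUQ' : U x 1 3 = Q := hUQ
    obtain ⟨-, -, E13, -, -⟩ := U_explicit x 1
    obtain ⟨-, -, -, -, E05⟩ := U_explicit x 0
    norm_num at E05 E13
    have hrel := rel4 T
    refine ab4 hodd e (lft H x 0) (lft H x 1) (lft H x 2) (lft H x 3) (lft H x 4)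
      ?_ ?_ ?_ ?_ ?_ ?_ ?_ ?_ ?_ ?_ ?_ ?_ ?_ ?_ ?_ ?_ ?_ ?_ ?_ ?_ ?_
    · exact Subtype.ext (by rw [Subgroup.coe_mul, lft_coe H hx0, T.sq (by norm_num)]; rfl)
    · exact Subtype.ext (by rw [Subgroup.coe_mul, lft_coe H hx1, T.sq (by norm_num)]; rfl)
    · exact Subtype.ext (by rw [Subgroup.coe_mul, lft_coe H hx2, T.sq (by norm_num)]; rfl)
    · exact Subtype.ext (by rw [Subgroup.coe_mul, lft_coe H hx3, T.sq (by norm_num)]; rfl)
    · exact Subtype.ext (by rw [Subgroup.coe_mul, lft_coe H hx4, T.sq (by norm_num)]; rfl)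
    · exact Subtype.ext (by
        simp only [Subgroup.coe_mul, lft_coe H hx0, lft_coe H hx1]
        exact (L.commute (by norm_num)).eq)
    · exact Subtype.ext (by
        simp only [Subgroup.coe_mul, lft_coe H hx1, lft_coe H hx2]
        exact (L.commute (by norm_num)).eq)
    · exact Subtype.ext (by
        simp only [Subgroup.coe_mul, lft_coe H hx2, lft_coe H hx3]
        exact (L.commute (by norm_num)).eq)
    · exact Subtype.ext (by
        simp only [Subgroup.coe_mul, lft_coe H hx3, lft_coe H hx4]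
        exact (L.commute (by norm_num)).eq)
    · exact Subtype.ext (by
        simp only [Subgroup.coe_mul, lft_coe H hx0, lft_coe H hx2]
        exact (L.commute (by norm_num)).eq)
    · exact Subtype.ext (by
        simp only [Subgroup.coe_mul, lft_coe H hx1, lft_coe H hx3]
        exact (L.commute (by norm_num)).eq)
    · exact Subtype.ext (by
        simp only [Subgroup.coe_mul, lft_coe H hx2, lft_coe H hx4]
        exact (L.commute (by norm_num)).eq)
    · rcases hrel with ⟨e03, e14⟩ | ⟨e03, e14⟩ | ⟨e03, e14⟩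
      · refine Or.inl ⟨Subtype.ext ?_, Subtype.ext ?_⟩
        · simp only [Subgroup.coe_mul, lft_coe H hx0, lft_coe H hx1, lft_coe H hx3]
          exact e03
        · simp only [Subgroup.coe_mul, lft_coe H hx1, lft_coe H hx2, lft_coe H hx4]
          exact e14
      · refine Or.inr (Or.inl ⟨Subtype.ext ?_, Subtype.ext ?_⟩)
        · simp only [Subgroup.coe_mul, lft_coe H hx0, lft_coe H hx2, lft_coe H hx3]
          exact e03
        · simp only [Subgroup.coe_mul, lft_coe H hx1, lft_coe H hx3, lft_coe H hx4]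
          exact e14
      · refine Or.inr (Or.inr ⟨Subtype.ext ?_, Subtype.ext ?_⟩)
        · simp only [Subgroup.coe_mul, lft_coe H hx0, lft_coe H hx1, lft_coe H hx2,
            lft_coe H hx3]
          exact e03
        · simp only [Subgroup.coe_mul, lft_coe H hx1, lft_coe H hx2, lft_coe H hx3,
            lft_coe H hx4]
          exact e14
    · refine (closure_eq_of_map H (top_map_subtype H) ?_).symm
      simp only [Set.image_insert_eq, Set.image_singleton, lft_coe H hx0, lft_coe H hx1,
        lft_coe H hx2, lft_coe H hx3, lft_coe H hx4]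
      rw [← E05, T.hH]
    · refine closure_eq_of_map H hQdef.symm ?_
      simp only [Set.image_insert_eq, Set.image_singleton, lft_coe H hx1, lft_coe H hx2,
        lft_coe H hx3]
      rw [← E13, hUQ']
    · rw [hcardQ, ← hUQ', T.pt.card 1 3 (by norm_num)]; norm_num
    · intro ha
      have := hmemQ _ ha
      rw [lft_coe H hx0, ← hUQ'] at this
      exact T.not_mem_right_U 0 3 (by norm_num) (by simpa using this)
    · intro ha
      have := hmemQ _ ha
      rw [lft_coe H hx4, ← hUQ'] at this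
      exact T.not_mem_left_U 1 3 (by norm_num) (by simpa using this)
    · intro h0
      have := congrArg (Subtype.val) h0
      rw [lft_coe H hx1] at this
      exact T.ne_one (by norm_num) 1 this
    · intro h0
      have := congrArg (Subtype.val) h0
      rw [lft_coe H hx2] at this
      exact T.ne_one (by norm_num) 2 this
    · intro h0
      have := congrArg (Subtype.val) h0
      rw [lft_coe H hx1, lft_coe H hx3] at this
      have h1 : x 1 ∈ U x 1 2 := mem_U_self x le_rfl (by norm_num)
      rw [this] at h1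
      exact T.not_mem_left_U 1 2 (by norm_num) (by simpa using h1)
  · exact (not_six T).elim

end main

end Cfsg.Agent.Helper42.GD
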